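import Cfsg.Agent.H417.JOneDeg
import Cfsg.Agent.H664.Eight.Base

/-!
# The character degrees of `J₁` (helper175, S4899)

`mem_j1`, `j1` : the degrees of `J₁` are `1, 56, 76, 77, 120, 133, 209`.
-/

set_option autoImplicit false

namespace Cfsg.Agent.H175.Eight

open Cfsg Subgroup
open Cfsg.Agent.Characters.Core
open Cfsg.Agent.M23Order.Base
open Cfsg.Agent.H413.JOneSpec
open Cfsg.Agent.SporRec.J1.Defs
open Cfsg.Agent.H417 Cfsg.Agent.H417.JOneDeg

universe u

variable {K : Type u} [Group K]

/-- the multiplicities -/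
theorem arith_j1 {a56 a76 a77 a120 a132 a133 a209 : ℕ} (x19 : a120 = 3)
    (e7 : a76 + a132 + a209 = 3) (e11 : a56 + a76 + a133 = 7) (e19 : a56 + a77 + a132 = 5)
    (hs : 1 + 3136 * a56 + 5776 * a76 + 5929 * a77 + 14400 * a120 + 17424 * a132 +
      17689 * a133 + 43681 * a209 = 175560) :
    a56 = 2 ∧ a76 = 2 ∧ a77 = 3 ∧ a132 = 0 ∧ a133 = 3 ∧ a209 = 1 := by
  have h : 7 * a56 + 19 * a76 + 11 * a132 = 52 := by
    have e1 : a209 = 3 - a76 - a132 := by omega
    have e2 : a133 = 7 - a56 - a76 := by omega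
    have e3 : a77 = 5 - a56 - a132 := by omega
    subst x19
    zify at *
    rw [Nat.cast_sub (by omega), Nat.cast_sub (by omega)] at e1 e2 e3
    push_cast at e1 e2 e3
    rw [e1, e2, e3] at hs
    linarith
  have h1 : a76 ≤ 2 := by omega
  have h2 : a132 ≤ 3 := by omega
  interval_cases a76 <;> interval_cases a132 <;> omega

set_option maxHeartbeats 1000000 in
/-- the degrees of `J₁` -/
theorem key_j1 [Finite K] [IsSimpleGroup K] (h : Local K) (hc : Nat.card K = 175560) :
    (∀ χ : IrrCharacter K, dg χ ∈ [1, 56, 76, 77, 120, 133, 209]) ∧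
      ∀ d ∈ [1, 56, 76, 77, 120, 133, 209], ∃ χ : IrrCharacter K, dg χ = d := by
  classical
  have := finite_irr (G := K)
  let _ := Fintype.ofFinite (IrrCharacter K)
  have f7 : Fact (Nat.Prime 7) := ⟨by norm_num⟩
  have f11 : Fact (Nat.Prime 11) := ⟨by norm_num⟩
  have f19 : Fact (Nat.Prime 19) := ⟨by norm_num⟩
  obtain ⟨P, hP, ⟨D⟩⟩ := BlockCount.exists_SC (G := K) 7 (by norm_num) (by rw [hc]; norm_num)
    (by rw [hc]; norm_num) (fun y hy => by rw [card_cent h hc (by rw [hy]; unfold Big; tauto), hy]) (e := 6) (t := 1)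
    (by rw [hc]) (by norm_num)
  obtain ⟨Q, hQ, ⟨E⟩⟩ := BlockCount.exists_SC (G := K) 11 (by norm_num) (by rw [hc]; norm_num)
    (by rw [hc]; norm_num) (fun y hy => by rw [card_cent h hc (by rw [hy]; unfold Big; tauto), hy]) (e := 10) (t := 1)
    (by rw [hc]) (by norm_num)
  obtain ⟨R, hR, ⟨F⟩⟩ := BlockCount.exists_SC (G := K) 19 (by norm_num) (by rw [hc]; norm_num)
    (by rw [hc]; norm_num) (fun y hy => by rw [card_cent h hc (by rw [hy]; unfold Big; tauto), hy]) (e := 6) (t := 3)
    (by rw [hc]) (by norm_num)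
  have hperf : commutator K = ⊤ := MTwelve.SmallDegree.commutator_eq_top_of_card (by rw [hc]; norm_num)
  have hmem : ∀ χ : IrrCharacter K, dg χ ∈ ({1, 56, 76, 77, 120, 132, 133, 209} : Finset ℕ) := by
    intro χ
    have h1 := Divs.all_divs _ primes_ok (N := 175560) rfl deg_list (d := dg χ) (by rw [← hc]; exact dg_dvd χ)
    have h2 := BlockCount.mod_cases D (by norm_num) (by norm_num) (by norm_num) χ
    have h3 := BlockCount.mod_cases E (by norm_num) (by norm_num) (by norm_num) χ
    have h4 := BlockCount.mod_cases F (by norm_num) (by norm_num) (by norm_num) χ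
    have h5 := ne_210 h hc χ
    have h6 : dg χ ^ 2 ≤ 175560 := by
      have h7 := sum_dg_sq_le {χ}
      rw [Finset.sum_singleton, hc] at h7
      exact h7
    simp only [Finset.mem_insert, Finset.mem_singleton]
    simp only [Bool.or_eq_true, decide_eq_true_eq, Bool.not_eq_true', beq_iff_eq, Bool.or_eq_false_iff,
      beq_eq_false_iff_ne] at h1
    omega
  have h1 : cnt (fun χ : IrrCharacter K => dg χ) 1 = 1 := by
    rw [cnt, Finset.card_eq_one]
    refine ⟨⟨1, isIrr_one⟩, ?_⟩
    ext χ
    rw [Finset.mem_filter, Finset.mem_singleton]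
    constructor
    · rintro ⟨-, h1⟩
      exact Subtype.ext (coe_eq_one_of_dg hperf h1)
    · rintro rfl
      exact ⟨Finset.mem_univ _, dg_of_eq (by simp)⟩
  have hsum := sum_eq (fun χ : IrrCharacter K => dg χ) _ hmem (fun d => d ^ 2)
  rw [sum_dg_sq, hc] at hsum
  have e7 := BlockCount.card_ne_zero D (by norm_num) (by norm_num) (by norm_num)
  have e11 := BlockCount.card_ne_zero E (by norm_num) (by norm_num) (by norm_num)
  have e19 := BlockCount.card_ne_zero F (by norm_num) (by norm_num) (by norm_num)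
  have x19 := BlockCount.card_exc F (by norm_num) (by norm_num) (by norm_num)
  rw [card_filter_eq (fun χ : IrrCharacter K => dg χ) _ hmem (fun d => d % 7 ≠ 0)] at e7
  rw [card_filter_eq (fun χ : IrrCharacter K => dg χ) _ hmem (fun d => d % 11 ≠ 0)] at e11
  rw [card_filter_eq (fun χ : IrrCharacter K => dg χ) _ hmem (fun d => d % 19 ≠ 0)] at e19
  rw [card_filter_eq (fun χ : IrrCharacter K => dg χ) _ hmem (fun d => d % 19 = 6 ∨ d % 19 = 19 - 6)] at x19
  rw [show (({1, 56, 76, 77, 120, 132, 133, 209} : Finset ℕ).filter fun d => d % 7 ≠ 0) =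
    {1, 76, 120, 132, 209} by decide +kernel] at e7
  rw [show (({1, 56, 76, 77, 120, 132, 133, 209} : Finset ℕ).filter fun d => d % 11 ≠ 0) =
    {1, 56, 76, 120, 133} by decide +kernel] at e11
  rw [show (({1, 56, 76, 77, 120, 132, 133, 209} : Finset ℕ).filter fun d => d % 19 ≠ 0) =
    {1, 56, 77, 120, 132} by decide +kernel] at e19
  rw [show (({1, 56, 76, 77, 120, 132, 133, 209} : Finset ℕ).filter fun d => d % 19 = 6 ∨ d % 19 = 19 - 6) =
    {120} by decide +kernel] at x19
  repeat rw [Finset.sum_insert (by decide)] at hsum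
  repeat rw [Finset.sum_insert (by decide)] at e7
  repeat rw [Finset.sum_insert (by decide)] at e11
  repeat rw [Finset.sum_insert (by decide)] at e19
  rw [Finset.sum_singleton] at hsum e7 e11 e19 x19
  rw [h1] at hsum e7 e11 e19
  have hz : ∀ d, (∃ χ : IrrCharacter K, dg χ = d) ∨ cnt (fun χ : IrrCharacter K => dg χ) d = 0 := by
    intro d
    by_cases hd : ∃ χ : IrrCharacter K, dg χ = d
    · exact Or.inl hd
    · right
      rw [cnt, Finset.card_eq_zero, Finset.filter_eq_empty_iff]
      exact fun χ _ h2 => hd ⟨χ, h2⟩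
  have hz' : ∀ d, 0 < cnt (fun χ : IrrCharacter K => dg χ) d → ∃ χ : IrrCharacter K, dg χ = d := by
    intro d hd
    rcases hz d with h | h
    · exact h
    · omega
  generalize h56 : cnt (fun χ : IrrCharacter K => dg χ) 56 = a56 at hsum e7 e11 e19 x19
  generalize h76 : cnt (fun χ : IrrCharacter K => dg χ) 76 = a76 at hsum e7 e11 e19 x19
  generalize h77 : cnt (fun χ : IrrCharacter K => dg χ) 77 = a77 at hsum e7 e11 e19 x19
  generalize h120 : cnt (fun χ : IrrCharacter K => dg χ) 120 = a120 at hsum e7 e11 e19 x19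
  generalize h132 : cnt (fun χ : IrrCharacter K => dg χ) 132 = a132 at hsum e7 e11 e19 x19
  generalize h133 : cnt (fun χ : IrrCharacter K => dg χ) 133 = a133 at hsum e7 e11 e19 x19
  generalize h209 : cnt (fun χ : IrrCharacter K => dg χ) 209 = a209 at hsum e7 e11 e19 x19
  obtain ⟨s56, s76, s77, s132, s133, s209⟩ := arith_j1 (a56 := a56) (a76 := a76) (a77 := a77)
    (a120 := a120) (a132 := a132) (a133 := a133) (a209 := a209) (by omega) (by omega) (by omega)
    (by omega) (by omega)
  constructor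
  · intro χ
    have h2 := hmem χ
    simp only [Finset.mem_insert, Finset.mem_singleton] at h2
    have h3 : dg χ ≠ 132 := by
      intro h3
      have h4 : 0 < cnt (fun χ : IrrCharacter K => dg χ) 132 :=
        Finset.card_pos.2 ⟨χ, Finset.mem_filter.2 ⟨Finset.mem_univ _, h3⟩⟩
      rw [h132, s132] at h4
      exact lt_irrefl 0 h4
    simp only [List.mem_cons, List.not_mem_nil, or_false]
    tauto
  · intro d hd
    simp only [List.mem_cons, List.not_mem_nil, or_false] at hd
    rcases hd with rfl | rfl | rfl | rfl | rfl | rfl | rfl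
    · exact hz' 1 (by rw [h1]; norm_num)
    · exact hz' 56 (by rw [h56, s56]; norm_num)
    · exact hz' 76 (by rw [h76, s76]; norm_num)
    · exact hz' 77 (by rw [h77, s77]; norm_num)
    · exact hz' 120 (by rw [h120, x19]; norm_num)
    · exact hz' 133 (by rw [h133, s133]; norm_num)
    · exact hz' 209 (by rw [h209, s209]; norm_num)

/-- **`J₁` : the degrees.** -/
theorem mem_j1 {S : Type u} [Group S] (h : Spor.IsoJ1 S) (d : ℕ) :
    d ∈ charDegrees S ↔ d ∈ [1, 56, 76, 77, 120, 133, 209] := by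
  obtain ⟨e⟩ := h
  have : IsSimpleGroup Spor.J1 := SporadicB.J1.Main.isJ1.1
  have hfin : Finite Spor.J1 := Nat.finite_of_card_ne_zero (by rw [H413.JOneLocal.card_J1]; norm_num)
  rw [H424.DegTools.charDegrees_congr e]
  obtain ⟨h1, h2⟩ := key_j1 H413.JOneLocal.isLocal H413.JOneLocal.card_J1
  constructor
  · rintro ⟨χ, rfl⟩
    exact h1 χ
  · intro hd
    obtain ⟨χ, hχ⟩ := h2 d hd
    exact ⟨χ, hχ⟩

/-- **`J₁` has seven character degrees.** -/
theorem j1 {S : Type u} [Group S] (h : Spor.IsoJ1 S) : (charDegrees S).ncard = 7 := by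
  have hfin : Finite Spor.J1 := Nat.finite_of_card_ne_zero (by rw [H413.JOneLocal.card_J1]; norm_num)
  have : Finite S := by
    obtain ⟨e⟩ := h
    exact Finite.of_equiv _ e.symm.toEquiv
  exact H664.Eight.ncard_eq_of_list [1, 56, 76, 77, 120, 133, 209] (by decide) (mem_j1 h)

end Cfsg.Agent.H175.Eight
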