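import Cfsg.Agent.SmallSimple.TheoremBCor
import Cfsg.Agent.SmallSimple.PrimeLocal
import Cfsg.Agent.SmallSimple.SelfCentPrime
import Cfsg.Agent.H604.FD.Inner
import Cfsg.Agent.H686.CharKit
import Cfsg.Agent.H937.L34Seven

/-!
# The degrees in the principal block of a prime `p ∥ |G|` with self-centralizing elements of order `p` (helper175)

* `exists_blk` : from `|G|` and "no element of order `p k`, `k > 1`", when `|N(P) : P| = e` is forced by Sylow counting;
* `Blk.mem_NE`, `Blk.sign_pos`, `Blk.sign_neg` : locating known degrees.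
-/

set_option autoImplicit false

open Cfsg Subgroup

namespace Cfsg.Agent.H175.Eight

universe u

variable {G : Type u} [Group G] [Finite G]

/-- the degrees of the principal block -/
structure Blk (G : Type u) [Group G] [Finite G] (p e t : ℕ) (NE X : Finset (IrrCharacter G))
    (ε : IrrCharacter G → ℤ) (D : ℕ) : Prop where
  disj : Disjoint NE X
  card_NE : NE.card = e
  card_X : X.card = t
  sign : ∀ χ ∈ NE, ε χ = 1 ∨ ε χ = -1
  congr : ∀ χ ∈ NE, (p : ℤ) ∣ (charDegree (χ : G → ℂ) : ℤ) - ε χ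
  degX : ∀ χ ∈ X, charDegree (χ : G → ℂ) = D
  sum : ∑ χ ∈ NE, ε χ * (charDegree (χ : G → ℂ) : ℤ) = D ∨ ∑ χ ∈ NE, ε χ * (charDegree (χ : G → ℂ) : ℤ) = -D
  rest : ∀ χ : IrrCharacter G, χ ∉ NE → χ ∉ X → p ∣ charDegree (χ : G → ℂ)

theorem Blk.sum_congr {p e t : ℕ} {NE X : Finset (IrrCharacter G)} {ε : IrrCharacter G → ℤ} {D : ℕ}
    (h : Blk G p e t NE X ε D) : (p : ℤ) ∣ ∑ χ ∈ NE, ε χ * (charDegree (χ : G → ℂ) : ℤ) - e := by
  have h1 : (e : ℤ) = ∑ χ ∈ NE, (1 : ℤ) := by rw [Finset.sum_const, h.card_NE]; simp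
  rw [h1, ← Finset.sum_sub_distrib]
  refine Finset.dvd_sum fun χ hχ => ?_
  have h2 : ε χ * ε χ = 1 := by rcases h.sign χ hχ with e | e <;> rw [e] <;> norm_num
  have h3 : ε χ * (charDegree (χ : G → ℂ) : ℤ) - 1 = ε χ * ((charDegree (χ : G → ℂ) : ℤ) - ε χ) := by
    linear_combination h2
  rw [h3]
  exact (h.congr χ hχ).mul_left _

/-- a degree prime to `p`, not `± e` modulo `p` -/
theorem Blk.mem_NE {p e t : ℕ} {NE X : Finset (IrrCharacter G)} {ε : IrrCharacter G → ℤ} {D : ℕ}
    (h : Blk G p e t NE X ε D) {φ : IrrCharacter G} {d : ℕ} (hd : charDegree (φ : G → ℂ) = d) (h1 : ¬ p ∣ d)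
    (h2 : ¬ (p : ℤ) ∣ d - e) (h3 : ¬ (p : ℤ) ∣ d + e) : φ ∈ NE := by
  by_contra hn
  by_cases hX : φ ∈ X
  · have hD : D = d := by rw [← hd]; exact (h.degX φ hX).symm
    subst hD
    have h4 := h.sum_congr
    rcases h.sum with h5 | h5
    · rw [h5] at h4; exact h2 h4
    · rw [h5] at h4
      have h6 : -(D : ℤ) - e = -(D + e) := by ring
      rw [h6, dvd_neg] at h4
      exact h3 h4
  · exact h1 (hd ▸ h.rest φ hn hX)

theorem Blk.sign_pos {p e t : ℕ} (hp : 2 < p) {NE X : Finset (IrrCharacter G)} {ε : IrrCharacter G → ℤ} {D : ℕ}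
    (h : Blk G p e t NE X ε D) {φ : IrrCharacter G} (hφ : φ ∈ NE) {d : ℕ} (hd : charDegree (φ : G → ℂ) = d)
    (h1 : (p : ℤ) ∣ d - 1) : ε φ = 1 := by
  rcases h.sign φ hφ with h2 | h2
  · exact h2
  · exfalso
    have h3 := h.congr φ hφ
    rw [hd, h2] at h3
    have h4 : (p : ℤ) ∣ 2 := by
      have := dvd_sub h3 h1
      rwa [show (d : ℤ) - -1 - (d - 1) = 2 by ring] at this
    have h5 : p ∣ 2 := by exact_mod_cast h4
    have := Nat.le_of_dvd (by norm_num) h5
    omega

theorem Blk.sign_neg {p e t : ℕ} (hp : 2 < p) {NE X : Finset (IrrCharacter G)} {ε : IrrCharacter G → ℤ} {D : ℕ}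
    (h : Blk G p e t NE X ε D) {φ : IrrCharacter G} (hφ : φ ∈ NE) {d : ℕ} (hd : charDegree (φ : G → ℂ) = d)
    (h1 : (p : ℤ) ∣ d + 1) : ε φ = -1 := by
  rcases h.sign φ hφ with h2 | h2
  · exfalso
    have h3 := h.congr φ hφ
    rw [hd, h2] at h3
    have h4 : (p : ℤ) ∣ 2 := by
      have := dvd_sub h1 h3
      rwa [show (d : ℤ) + 1 - (d - 1) = 2 by ring] at this
    have h5 : p ∣ 2 := by exact_mod_cast h4
    have := Nat.le_of_dvd (by norm_num) h5
    omega
  · exact h2

open scoped Classical in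
/-- **The principal block of a prime `p ∥ |G|`, elements of order `p` self-centralizing.** -/
theorem exists_blk {p : ℕ} [hp : Fact p.Prime] (hp2 : p ≠ 2) {N : ℕ} (hN : Nat.card G = N) (h1 : p ∣ N)
    (h2 : ¬ p ^ 2 ∣ N) (hord : ∀ g : G, p ∣ orderOf g → orderOf g = p) {e t : ℕ} (ht : e * t = p - 1)
    (huniq : ∀ e', e' ∣ p - 1 → p * e' ∣ N → (N / (p * e')) % p = 1 → e' = e) :
    ∃ (NE X : Finset (IrrCharacter G)) (ε : IrrCharacter G → ℤ) (D : ℕ), Blk G p e t NE X ε D := by
  have hpp : p.Prime := hp.out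
  obtain ⟨P⟩ : Nonempty (Sylow p G) := inferInstance
  have hP : Nat.card P = p := SmallSimple.PrimeLocal.card_of_not_sq_dvd (hN ▸ h1) (hN ▸ h2) P
  have hP' : Nat.card (P : Subgroup G) = p := hP
  -- self-centralizing
  have hPC : (P : Subgroup G) ≤ centralizer (P : Set G) := by
    intro x hx
    rw [mem_centralizer_iff]
    intro y hy
    exact SmallSimple.PrimeLocal.comm_of_card_prime hpp _ hP' y hy x hx
  have hC : centralizer (P : Set G) = (P : Subgroup G) := by
    -- every element of the centralizer has order a power of `p`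
    refine le_antisymm ?_ hPC
    have hcard : Nat.card (centralizer (P : Set G)) ∣ N := by rw [← hN]; exact card_subgroup_dvd_card _
    have hpr : ∀ r : ℕ, r.Prime → r ∣ Nat.card (centralizer (P : Set G)) → r = p := by
      intro r hr hrd
      by_contra hne
      have : Fact r.Prime := ⟨hr⟩
      obtain ⟨y, hy⟩ := exists_prime_orderOf_dvd_card' r hrd
      obtain ⟨x, hx⟩ := exists_prime_orderOf_dvd_card' (G := (P : Subgroup G)) p (by rw [hP'])
      have hx' : orderOf (x : G) = p := by rw [Subgroup.orderOf_coe, hx]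
      have hy' : orderOf (y : G) = r := by rw [Subgroup.orderOf_coe, hy]
      have hc : Commute (x : G) (y : G) := (mem_centralizer_iff.1 y.2) x x.2
      have h3 : orderOf ((x : G) * y) = p * r := by
        rw [hc.orderOf_mul_eq_mul_orderOf_of_coprime (by rw [hx', hy']; exact (Nat.coprime_primes hpp hr).2 (Ne.symm hne)),
          hx', hy']
      have h4 := hord ((x : G) * y) (by rw [h3]; exact dvd_mul_right _ _)
      rw [h3] at h4
      have := hr.one_lt
      have h5 : p * r = p * 1 := by rw [h4, mul_one]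
      have := Nat.eq_of_mul_eq_mul_left hpp.pos h5
      omega
    have hpow : ∃ k, Nat.card (centralizer (P : Set G)) = p ^ k :=
      ⟨_, Nat.eq_prime_pow_of_unique_prime_dvd Nat.card_pos.ne' fun {r} hr hrd => hpr r hr hrd⟩
    obtain ⟨k, hk⟩ := hpow
    have hk1 : k ≤ 1 := by
      by_contra h
      exact h2 ((pow_dvd_pow p (by omega : 2 ≤ k)).trans (hk ▸ hcard))
    have hle : Nat.card (centralizer (P : Set G)) ≤ Nat.card (P : Subgroup G) := by
      rw [hk, hP']
      calc p ^ k ≤ p ^ 1 := Nat.pow_le_pow_right hpp.pos hk1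
        _ = p := pow_one p
    exact (Subgroup.eq_of_le_of_card_ge hPC hle).ge
  -- the index `e`
  set e' := (centralizer (P : Set G)).relIndex (normalizer (P : Set G)) with he'
  have hdvd : e' ∣ p - 1 := H604.FD.Inner.relIndex_dvd hpp hP'
  have hNcard : Nat.card (normalizer (P : Set G)) = p * e' := by
    have hle : centralizer (P : Set G) ≤ normalizer (P : Set G) := centralizer_le_normalizer _
    have h3 := Subgroup.card_mul_index ((centralizer (P : Set G)).subgroupOf (normalizer (P : Set G)))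
    have h4 : Nat.card (centralizer (P : Set G)) = p := by rw [hC]; exact hP'
    rw [Nat.card_congr (Subgroup.subgroupOfEquivOfLe hle).toEquiv, h4] at h3
    exact h3.symm
  have hsyl : Nat.card (Sylow p G) * (p * e') = N := by
    have h3 := Sylow.card_eq_index_normalizer P
    have h4 := Subgroup.index_mul_card (normalizer (P : Set G))
    rw [← hNcard, ← hN, ← h4]
    congr 1
  have hee : e' = e := by
    have hpos : 0 < p * e' := by
      rcases Nat.eq_zero_or_pos (p * e') with h | h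
      · rw [h, mul_zero] at hsyl
        exact absurd (hN.trans hsyl.symm) Nat.card_pos.ne'
      · exact h
    refine huniq e' hdvd ⟨_, by rw [mul_comm]; exact hsyl.symm⟩ ?_
    rw [← hsyl, Nat.mul_div_cancel _ hpos]
    have h7 := card_sylow_modEq_one p G
    have h8 : Nat.card (Sylow p G) % p = 1 % p := h7
    rw [h8, Nat.mod_eq_of_lt hpp.one_lt]
  have hone : ¬ p ∣ orderOf (1 : G) := by rw [orderOf_one]; exact fun h => hpp.one_lt.ne' (Nat.dvd_one.1 h)
  obtain ⟨NE, X, ε, d, S, hdis, hNE, hX, hε, hd, -, hv, -, -, hsum, hz⟩ :=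
    SmallSimple.TheoremBCor.theoremB_selfCent p hp2 P hP hC e t (by rw [← hee]) ht
  -- the degrees in `NE`
  have hcongr : ∀ χ ∈ NE, (p : ℤ) ∣ (charDegree (χ : G → ℂ) : ℤ) - ε χ := by
    intro χ hχ
    have := Fintype.ofFinite (P : Subgroup G)
    have hres : IsCharacter (P : Subgroup G) ((χ : G → ℂ) ∘ (P : Subgroup G).subtype) :=
      Characters.Core.isCharacter_comp (P : Subgroup G).subtype (Characters.Core.isIrr_isCharacter χ.2)
    obtain ⟨k, hk⟩ := H937.L34.sum_eq hres
    have h3 : ∑ x : (P : Subgroup G), ((χ : G → ℂ) ∘ (P : Subgroup G).subtype) x =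
        (charDegree (χ : G → ℂ) : ℂ) + ((p : ℂ) - 1) * ε χ := by
      rw [← Finset.add_sum_erase _ _ (Finset.mem_univ (1 : (P : Subgroup G)))]
      congr 1
      · rw [H686.CharKit.charDegree_irr χ]
        rfl
      · have h4 : ∀ x ∈ (Finset.univ : Finset (P : Subgroup G)).erase 1,
            ((χ : G → ℂ) ∘ (P : Subgroup G).subtype) x = (ε χ : ℂ) := fun x hx =>
          hv χ hχ (x : G) x.2 fun h => (Finset.mem_erase.1 hx).1 (Subtype.ext h)
        rw [Finset.sum_congr rfl h4, Finset.sum_const, Finset.card_erase_of_mem (Finset.mem_univ _),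
          Finset.card_univ, nsmul_eq_mul, ← Nat.card_eq_fintype_card, hP', Nat.cast_sub hpp.one_lt.le, Nat.cast_one]
    rw [h3, ← Nat.card_eq_fintype_card, hP'] at hk
    refine ⟨k - ε χ, ?_⟩
    have h4 : ((charDegree (χ : G → ℂ) : ℤ) : ℂ) - ε χ = ((p : ℤ) : ℂ) * ((k : ℤ) - ε χ) := by
      push_cast
      linear_combination hk
    exact_mod_cast h4
  have hXs : ∀ Θ ∈ X, ∑ χ ∈ NE, ε χ * (charDegree (χ : G → ℂ) : ℤ) = d * (charDegree (Θ : G → ℂ) : ℤ) := by
    intro Θ hΘ
    have h3 := hsum Θ hΘ 1 hone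
    have h4 : ((∑ χ ∈ NE, ε χ * (charDegree (χ : G → ℂ) : ℤ) : ℤ) : ℂ) = ((d * (charDegree (Θ : G → ℂ) : ℤ) : ℤ) : ℂ) := by
      push_cast
      rw [H686.CharKit.charDegree_irr Θ, ← h3]
      exact Finset.sum_congr rfl fun χ _ => by rw [H686.CharKit.charDegree_irr χ]
    exact_mod_cast h4
  have hXne : X.Nonempty := by
    rw [← Finset.card_pos, hX]
    rcases Nat.eq_zero_or_pos t with h | h
    · rw [h, mul_zero] at ht
      have := hpp.one_lt
      omega
    · exact h
  obtain ⟨Θ₀, hΘ₀⟩ := hXne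
  refine ⟨NE, X, ε, charDegree (Θ₀ : G → ℂ), hdis, hNE, hX, hε, hcongr, ?_, ?_, fun χ h3 h4 => (hz χ h3 h4).2⟩
  · intro χ hχ
    have h3 := hXs χ hχ
    rw [hXs Θ₀ hΘ₀] at h3
    rcases hd with rfl | rfl
    · have h4 : (charDegree (χ : G → ℂ) : ℤ) = charDegree (Θ₀ : G → ℂ) := by linarith
      exact_mod_cast h4
    · have h4 : (charDegree (χ : G → ℂ) : ℤ) = charDegree (Θ₀ : G → ℂ) := by linarith
      exact_mod_cast h4
  · rw [hXs Θ₀ hΘ₀]
    rcases hd with rfl | rfl
    · left; ring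
    · right; ring

end Cfsg.Agent.H175.Eight
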