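import Cfsg.Agent.H175.Eight.JTwoData
import Cfsg.Agent.H678.DG.JTwoDeg
import Cfsg.Agent.H118.FD.Rows
import Cfsg.Agent.H664.Eight.Base
import Cfsg.Agent.J2.HundredGens
import Cfsg.Agent.S1619

/-!
# The Hall-Janko group has at least eight character degrees (helper175, S4899)

The action on 840 subsets of size 40 (rank 7); the relation is "the intersection has size 24" (valency 15): the degrees
are `1, 63, 90, 126, 160, 175, 225`; the degree 36 comes from the action on 100 points.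
-/

set_option autoImplicit false
set_option maxRecDepth 100000

namespace Cfsg.Agent.H175.Eight.JTwo

open Cfsg Equiv Cfsg.Agent.SporadicA.PermTab Cfsg.Agent.SporadicA.J2Data Cfsg.Agent.SporadicA.J2Hundred
open Cfsg.Agent.H175.Eight.JTwoData Cfsg.Agent.H678.DG.Blk Cfsg.Agent.H664.Eight

/-- the mask of the subset -/
def mk (x : ℕ) : ℕ := Nat.land (Nat.shiftRight SM (Nat.mul 100 x)) 1267650600228229401496703205375

/-- the tables -/
def PQ : List (ℕ × ℕ) := [(tA, qA), (tB, qB), (tC, qC), (tD, qD), (tE, qE)]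

/-- the roots -/
def bs : List ℕ := [1, 25, 45, 405, 420, 600]

/-- words of the stabiliser -/
def KW : List (List (ℕ × ℕ)) := [[(tB, qB)], [(tE, qE)],
  [(tD, qD), (tC, qC), (tB, qB), (tA, qA), (tB, qB), (tA, qA), (tD, qD), (tC, qC), (tB, qB), (tD, qD), (tC, qC),
    (tD, qD)]]

/-- sizes -/
def kk (j : ℕ) : ℕ := [1, 24, 20, 360, 15, 180, 240].getD j 0

/-- the collapsed matrix -/
def B (i j : ℕ) : ℕ := ([[0, 0, 0, 0, 15, 0, 0], [0, 0, 0, 15, 0, 0, 0], [0, 0, 3, 0, 0, 0, 12],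
  [0, 1, 0, 6, 0, 4, 4], [1, 0, 0, 0, 2, 12, 0], [0, 0, 0, 8, 1, 2, 4], [0, 0, 1, 6, 0, 3, 5]].getD i []).getD j 0

theorem c1 : allL (chkPQ 100 840 mk) PQ = true := by decide +kernel
theorem c2 : chkInj 840 100 mk = true := by decide +kernel
theorem c3 : allL (chkW 840 bs) KW = true := by decide +kernel
theorem c4 : chkF 840 bs PQ KW (lk PR) = true := by decide +kernel
theorem c5 : chkK 840 7 bs kk = true := by decide +kernel
theorem c6 : chkB 100 840 7 24 mk bs B = true := by decide +kernel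

theorem hGT : ∀ g ∈ gens, ∃ pq ∈ PQ, ∀ i : Fin 100, ((g i : Fin 100) : ℕ) = lk pq.1 i := by
  rintro g (rfl | rfl | rfl | rfl | rfl)
  · exact ⟨(tA, qA), by simp [PQ], fun i => mkPerm_val tA tA iA i⟩
  · exact ⟨(tB, qB), by simp [PQ], fun i => mkPerm_val tB tB iB i⟩
  · exact ⟨(tC, qC), by simp [PQ], fun i => mkPerm_val tC tC iC i⟩
  · exact ⟨(tD, qD), by simp [PQ], fun i => mkPerm_val tD tD iD i⟩
  · exact ⟨(tE, qE), by simp [PQ], fun i => mkPerm_val tE tE iE i⟩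

theorem hin : ∀ pq ∈ PQ, InG G pq.1 := by
  intro pq h
  simp only [PQ, List.mem_cons, List.not_mem_nil, or_false] at h
  rcases h with rfl | rfl | rfl | rfl | rfl
  exacts [inA, inB, inC, inD, inE]

theorem hKW : ∀ w ∈ KW, ∀ pq ∈ w, pq ∈ PQ := by
  intro w hw pq hpq
  simp only [KW, List.mem_cons, List.not_mem_nil, or_false] at hw
  unfold PQ
  rcases hw with rfl | rfl | rfl <;>
  · simp only [List.mem_cons, List.not_mem_nil, or_false] at hpq ⊢
    tauto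

/-- The degree for an eigenvalue. -/
theorem deg (a : Fin 7 → ℚ) (t : ℚ) (L : Fin 7 → Fin 7 → ℚ) (d : ℕ)
    (ha : a 0 = 1) (hBa : ∀ i : Fin 7, ∑ j : Fin 7, (B i j : ℚ) * a j = t * a i)
    (hL : ∀ i j : Fin 7, ∑ l : Fin 7, L i l * ((B l j : ℚ) - if l = j then t else 0) =
      (if i = j then 1 else 0) - if j = 0 then a i else 0)
    (hd : (d : ℚ) * ∑ j : Fin 7, (kk j : ℚ) * (a j * a j) = (840 : ℕ)) :
    ∃ χ : IrrCharacter G, charDegree (χ : G → ℂ) = d :=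
  deg_of_tables (s := 24) (rfl : G = Subgroup.closure gens) hGT hin hKW (by norm_num) rfl c1 c2 c3 c4 c5 c6 (by norm_num) a t
    L d ha hBa hL hd

theorem deg_63 : 63 ∈ charDegrees G :=
  deg ![1, -1/4, 1/2, -1/12, 1/3, 0, 1/12] 5 ![![0, 0, 0, 0, 0, 0, 0], ![3/80, -7/20, 0, -3/4, 7/16, 3/4, 0],
    ![-7/40, 3/5, -1/2, 3, -11/8, -3/2, 0], ![1/80, -1/20, 0, -1/4, 7/48, 1/4, 0], ![1/15, 0, 0, 0, 0, 0, 0],
    ![1/60, 0, 0, 0, 1/12, 0, 0], ![-7/240, 1/10, 0, 1/2, -11/48, -1/4, 0]] 63 (by decide +kernel) (by decide +kernel)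
    (by decide +kernel) (by decide +kernel)

theorem deg_90 : 90 ∈ charDegrees G :=
  deg ![1, 5/12, 3/10, 1/36, 1/15, -4/45, -1/20] 1 ![![0, 0, 0, 0, 0, 0, 0], ![5/48, 1/4, 0, 5/4, -5/16, -5/4, 0],
    ![7/40, 1, 1/2, 1, -1/8, -5/2, 0], ![1/144, 1/12, 0, 1/12, -1/48, -1/12, 0], ![1/15, 0, 0, 0, 0, 0, 0],
    ![-1/180, 0, 0, 0, 1/12, 0, 0], ![-7/240, -1/6, 0, -1/6, 1/48, 5/12, 0]] 90 (by decide +kernel) (by decide +kernel)
    (by decide +kernel) (by decide +kernel)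

theorem deg_126 : 126 ∈ charDegrees G :=
  deg ![1, 1/6, 0, -1/18, -1/3, 1/9, 0] (-5) ![![0, 0, 0, 0, 0, 0, 0], ![-7/120, 139/440, -3/88, -51/88, 1/8, 0, 3/11],
    ![0, -9/220, 7/44, 9/44, 0, 0, -3/11], ![7/360, -17/440, 1/88, 17/88, -1/24, 0, -1/11], ![1/15, 0, 0, 0, 0, 0, 0],
    ![-7/180, 0, 0, 0, 1/12, 0, 0], ![0, 3/110, -1/44, -3/22, 0, 0, 2/11]] 126 (by decide +kernel) (by decide +kernel)
    (by decide +kernel) (by decide +kernel)

theorem deg_160 : 160 ∈ charDegrees G :=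
  deg ![1, 0, -1/5, 0, 2/5, 1/20, -1/20] 6 ![![0, 0, 0, 0, 0, 0, 0], ![5/99, -8/33, 0, -5/11, 10/33, 5/11, 0],
    ![-23/165, 8/33, -1/3, 16/11, -7/11, -5/11, 0], ![2/99, -1/33, 0, -2/11, 4/33, 2/11, 0], ![1/15, 0, 0, 0, 0, 0, 0],
    ![1/45, 0, 0, 0, 1/12, 0, 0], ![-23/660, 2/33, 0, 4/11, -7/44, -5/44, 0]] 160 (by decide +kernel) (by decide +kernel)
    (by decide +kernel) (by decide +kernel)

theorem deg_175 : 175 ∈ charDegrees G :=
  deg ![1, -1/4, 1/10, 1/20, -1/5, 0, -1/20] (-3) ![![0, 0, 0, 0, 0, 0, 0], ![7/144, -1/12, 0, 5/4, 5/48, -5/4, 0],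
    ![-3/40, 1/3, 1/6, -1, 1/8, 1/2, 0], ![-7/720, 1/12, 0, -1/4, -1/48, 1/4, 0], ![1/15, 0, 0, 0, 0, 0, 0],
    ![-1/36, 0, 0, 0, 1/12, 0, 0], ![3/80, -1/6, 0, 1/2, -1/16, -1/4, 0]] 175 (by decide +kernel) (by decide +kernel)
    (by decide +kernel) (by decide +kernel)

theorem deg_225 : 225 ∈ charDegrees G :=
  deg ![1, 0, -1/5, 0, -1/15, -1/15, 1/15] (-1) ![![0, 0, 0, 0, 0, 0, 0], ![5/64, 1/16, 0, 15/16, -5/64, -15/16, 0],
    ![-3/160, 3/8, 1/4, -3/8, 7/32, -3/8, 0], ![-1/192, 1/16, 0, -1/16, 1/192, 1/16, 0], ![1/15, 0, 0, 0, 0, 0, 0],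
    ![-1/60, 0, 0, 0, 1/12, 0, 0], ![1/160, -1/8, 0, 1/8, -7/96, 1/8, 0]] 225 (by decide +kernel) (by decide +kernel)
    (by decide +kernel) (by decide +kernel)

end Cfsg.Agent.H175.Eight.JTwo

namespace Cfsg.Agent.H175.Eight

open Cfsg Cfsg.Agent.H664.Eight

universe u

/-- **Row `J₂`.** -/
theorem eight_j2 {S : Type u} [Group S] (h : Spor.IsoJ2 S) : Eight S := by
  have hc := Cfsg.Agent.NotCT.Orders.j2 h
  have : Finite S := Nat.finite_of_card_ne_zero (by rw [hc]; norm_num)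
  have h36 := H118.FD.Rows.mem_36 h
  obtain ⟨f⟩ := J2.HundredGens.J2_iso Cfsg.Agent.S1619.result.2.2.2
  obtain ⟨e⟩ := h
  have hG := H424.DegTools.charDegrees_congr (e.trans f)
  refine eight_of_list [1, 36, 63, 90, 126, 160, 175, 225] (by decide) (by simp) ?_
  intro x hx
  simp only [List.mem_cons, List.not_mem_nil, or_false] at hx
  rcases hx with rfl | rfl | rfl | rfl | rfl | rfl | rfl | rfl
  · exact one_mem
  · exact h36
  · rw [hG]; exact JTwo.deg_63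
  · rw [hG]; exact JTwo.deg_90
  · rw [hG]; exact JTwo.deg_126
  · rw [hG]; exact JTwo.deg_160
  · rw [hG]; exact JTwo.deg_175
  · rw [hG]; exact JTwo.deg_225

end Cfsg.Agent.H175.Eight
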