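import Cfsg.Agent.H664.Eight.Base
import Cfsg.Agent.H175.Eight.Blk
import Cfsg.Agent.H113.PSL.Main
import Cfsg.Agent.S2476
import Cfsg.Agent.S2544
import Cfsg.Agent.S0243

/-!
# The character degrees of `PSL_3(3)` and of `PSL_3(4)` (helper175, S4899)

* `mem_l33`, `ncard_l33` : the degrees of `PSL_3(3)` are `1, 12, 13, 16, 26, 27, 39`;
* `mem_l34`, `ncard_l34` : the degrees of `PSL_3(4)` are `1, 20, 35, 45, 63, 64`.
-/

set_option autoImplicit false
set_option linter.unusedSectionVars false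

open scoped ComplexConjugate
open Cfsg Matrix

namespace Cfsg.Agent.H175.Eight

open Cfsg.Agent.H113.PSL.Facts Cfsg.Agent.H113.PSL.Three Cfsg.Agent.H113.PSL.Hyper Cfsg.Agent.H113.PSL.Degrees

universe u

theorem charP_of_card {F : Type u} [Field F] [Fintype F] {p k : ℕ} (hp : p.Prime) (h : Fintype.card F = p ^ k) :
    CharP F p := by
  obtain ⟨r, hr⟩ := CharP.exists F
  obtain ⟨n, hrp, hn⟩ := FiniteField.card F r
  have h1 : r ∣ p ^ k := by rw [← h, hn]; exact dvd_pow_self r n.ne_zero
  have h2 := (Nat.prime_dvd_prime_iff_eq hrp hp).1 (hrp.dvd_of_dvd_pow h1)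
  rwa [h2] at hr

/-- the Steinberg character -/
theorem exists_steinberg {F : Type u} [Field F] [Fintype F] {n : ℕ} (hn : 2 ≤ n) (p : ℕ) [hp : Fact p.Prime] [CharP F p]
    {k m : ℕ} (hcard : Nat.card (ProjectiveSpecialLinearGroup (Fin n) F) = p ^ k * m) (hm : ¬ p ∣ m) :
    ∃ φ : IrrCharacter (ProjectiveSpecialLinearGroup (Fin n) F),
      charDegree (φ : ProjectiveSpecialLinearGroup (Fin n) F → ℂ) = p ^ k := by
  have : Finite (ProjectiveSpecialLinearGroup (Fin n) F) :=
    Finite.of_surjective _ (QuotientGroup.mk'_surjective _)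
  obtain ⟨χ, hχ, hχP⟩ := Cfsg.Agent.S2544.result (F := F) p n hn
  obtain ⟨P⟩ : Nonempty (Sylow p (ProjectiveSpecialLinearGroup (Fin n) F)) := inferInstance
  refine ⟨⟨χ, hχ⟩, ?_⟩
  apply Blocks.Basic.charDegree_of_eq
  change χ 1 = _
  rw [(hχP P).1, P.card_eq_multiplicity, hcard]
  have hm0 : m ≠ 0 := by rintro rfl; exact hm (dvd_zero p)
  rw [Nat.factorization_mul (pow_ne_zero _ hp.out.ne_zero) hm0, Finsupp.add_apply,
    Nat.factorization_eq_zero_of_not_dvd hm, add_zero, hp.out.factorization_pow, Finsupp.single_eq_same]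

/-- the character of degree `q² + q + 1`, `q = 3` -/
theorem exists_thirteen {F : Type u} [Field F] [Fintype F] (hF : Fintype.card F = 3) :
    ∃ φ : IrrCharacter (ProjectiveSpecialLinearGroup (Fin 3) F),
      charDegree (φ : ProjectiveSpecialLinearGroup (Fin 3) F → ℂ) = 13 := by
  classical
  obtain ⟨χ, hχ⟩ := MulChar.exists_mulChar_orderOf F (dvd_refl (Fintype.card F - 1))
    (Complex.isPrimitiveRoot_exp (Fintype.card F - 1) (by omega))
  have hne : χ ≠ 1 := by
    rintro rfl
    rw [orderOf_one] at hχ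
    omega
  have hsq : χ ^ 2 = 1 := by
    rw [show (2 : ℕ) = orderOf χ by rw [hχ]; omega]
    exact pow_orderOf_eq_one χ
  have h1 : linDet (K := F) χ.toUnitHom 2 1 = 1 := by simp [linDet]
  obtain ⟨φ, t, ht, hφ⟩ := exists_three (isIrr_linDet (F := F) (n := 2) χ.toUnitHom) (d := 1) (by rw [h1]; norm_num)
    (J := fun c => χ c) (fun c => by
      rw [Finset.sum_congr rfl fun y _ => linDet_mir χ c y, Finset.sum_const, Finset.card_univ, nsmul_eq_mul])
    1 (by rw [H113.BorelInd.sum_units_mul_conj, if_neg hne]) (fun c => by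
      rw [h1, MulChar.one_apply_coe, mul_one]
      unfold linDet
      rw [MulChar.coe_toUnitHom, GeneralLinearGroup.val_det_apply, GeneralLinearGroup.coe_scalar, Matrix.det_fin_two]
      simp only [scalar_apply, diagonal_apply_eq]
      rw [diagonal_apply_ne _ (by decide), diagonal_apply_ne _ (by decide), mul_zero, sub_zero, map_mul, ← pow_two,
        ← MulChar.pow_apply_coe, hsq, MulChar.one_apply_coe])
  rw [hF] at ht hφ
  have ht1 : t = 1 := Nat.dvd_one.1 (ht.trans (by norm_num))
  subst ht1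
  exact ⟨φ, by omega⟩

theorem ne_of_deg {G : Type u} [Group G] {φ ψ : IrrCharacter G} {a b : ℕ} (h1 : charDegree (φ : G → ℂ) = a)
    (h2 : charDegree (ψ : G → ℂ) = b) (hab : a ≠ b) : φ ≠ ψ := by
  rintro rfl
  exact hab (h1.symm.trans h2)

theorem exists_triv (G : Type u) [Group G] [Finite G] : ∃ φ : IrrCharacter G, charDegree (φ : G → ℂ) = 1 := by
  obtain ⟨φ, hφ⟩ := H664.Eight.one_mem (S := G)
  exact ⟨φ, hφ⟩

/-! ### `PSL_3(3)` -/

section three

variable {F : Type u} [Field F] [Fintype F]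

theorem card_three (hF : Fintype.card F = 3) : Nat.card (ProjectiveSpecialLinearGroup (Fin 3) F) = 5616 := by
  have h1 := Cfsg.Agent.S0243.result (F := F) hF 3 (by norm_num)
  rw [Fin.prod_univ_three] at h1
  norm_num at h1
  omega

theorem ord_three (hF : Fintype.card F = 3) (g : ProjectiveSpecialLinearGroup (Fin 3) F) (h : 13 ∣ orderOf g) :
    orderOf g = 13 := by
  have : Fact (Nat.Prime 3) := ⟨Nat.prime_three⟩
  have : CharP F 3 := charP_of_card (k := 1) Nat.prime_three (by rw [hF]; norm_num)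
  have h1 := Cfsg.Agent.S2476.result (F := F) 3
  have h2 : orderOf g ∈ Set.range (orderOf : ProjectiveSpecialLinearGroup (Fin 3) F → ℕ) := ⟨g, rfl⟩
  rw [h1, Set.mem_ofPred_eq, hF] at h2
  norm_num at h2
  rcases h2 with h2 | h2 | h2 | h2
  · exact Nat.dvd_antisymm h2 h
  all_goals
    exfalso
    have := Nat.le_of_dvd (by norm_num) (h.trans h2)
    omega

theorem mem_l33 (hF : Fintype.card F = 3) (d : ℕ) :
    d ∈ charDegrees (ProjectiveSpecialLinearGroup (Fin 3) F) ↔ d ∈ [1, 12, 13, 16, 26, 27, 39] := by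
  classical
  have : Fact (Nat.Prime 3) := ⟨Nat.prime_three⟩
  have p13 : Nat.Prime 13 := by norm_num
  have : Fact (Nat.Prime 13) := ⟨p13⟩
  have : CharP F 3 := charP_of_card (k := 1) Nat.prime_three (by rw [hF]; norm_num)
  have hfin : Finite (ProjectiveSpecialLinearGroup (Fin 3) F) :=
    Finite.of_surjective _ (QuotientGroup.mk'_surjective _)
  set G := ProjectiveSpecialLinearGroup (Fin 3) F with hG
  have hcard : Nat.card G = 5616 := card_three hF
  have := Characters.Core.finite_irr (G := G)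
  have := Fintype.ofFinite (IrrCharacter G)
  obtain ⟨φ1, d1⟩ := exists_triv G
  obtain ⟨φ12, d12⟩ : ∃ φ : IrrCharacter G, charDegree (φ : G → ℂ) = 12 := by
    obtain ⟨φ, h⟩ := t3 (F := F) (n := 3) (by norm_num)
    exact ⟨φ, by rw [h, hF]; decide⟩
  obtain ⟨φ27, d27⟩ : ∃ φ : IrrCharacter G, charDegree (φ : G → ℂ) = 27 := by
    obtain ⟨φ, h⟩ := exists_steinberg (F := F) (n := 3) (by norm_num) 3 (k := 3) (m := 208) (by rw [card_three hF]; norm_num)
      (by norm_num)
    exact ⟨φ, by rw [h]; norm_num⟩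
  obtain ⟨φ13, d13⟩ := exists_thirteen hF
  obtain ⟨φ26, d26⟩ : ∃ φ : IrrCharacter G, charDegree (φ : G → ℂ) = 26 := by
    obtain ⟨φ, t, ht, h⟩ := exists_hyper (F := F) (m := 2) (by norm_num) (H113.PSL.Main.hasCusp F 2 (by norm_num))
    rw [hF] at ht h
    have ht1 : t = 1 := Nat.dvd_one.1 (ht.trans (by norm_num))
    subst ht1
    norm_num at h
    exact ⟨φ, by omega⟩
  obtain ⟨φ39, d39⟩ : ∃ φ : IrrCharacter G, charDegree (φ : G → ℂ) = 39 := by
    obtain ⟨φ, t, ht, h⟩ := exists_st (F := F) (by omega) (by omega)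
    rw [hF] at ht h
    have ht1 : t = 1 := Nat.dvd_one.1 (ht.trans (by norm_num))
    subst ht1
    norm_num at h
    exact ⟨φ, by omega⟩
  obtain ⟨NE, X, ε, D, B⟩ := exists_blk (G := G) (p := 13) (by norm_num) hcard (by norm_num) (by norm_num)
    (ord_three hF) (e := 3) (t := 4) (by norm_num) (by
      intro e' h1 h2 h3
      have h4 := Nat.le_of_dvd (by norm_num) h1
      interval_cases e' <;> revert h1 h2 h3 <;> decide)
  have m1 : φ1 ∈ NE := B.mem_NE d1 (by norm_num) (by norm_num) (by norm_num)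
  have m12 : φ12 ∈ NE := B.mem_NE d12 (by norm_num) (by norm_num) (by norm_num)
  have m27 : φ27 ∈ NE := B.mem_NE d27 (by norm_num) (by norm_num) (by norm_num)
  have e1 : ε φ1 = 1 := B.sign_pos (by norm_num) m1 d1 (by norm_num)
  have e12 : ε φ12 = -1 := B.sign_neg (by norm_num) m12 d12 (by norm_num)
  have e27 : ε φ27 = 1 := B.sign_pos (by norm_num) m27 d27 (by norm_num)
  have n1 : φ1 ≠ φ12 := ne_of_deg d1 d12 (by norm_num)
  have n2 : φ1 ≠ φ27 := ne_of_deg d1 d27 (by norm_num)
  have n3 : φ12 ≠ φ27 := ne_of_deg d12 d27 (by norm_num)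
  have hNE : NE = {φ1, φ12, φ27} := by
    symm
    apply Finset.eq_of_subset_of_card_le
    · intro x hx
      simp only [Finset.mem_insert, Finset.mem_singleton] at hx
      rcases hx with rfl | rfl | rfl <;> assumption
    · rw [B.card_NE, Finset.card_insert_of_notMem (by simp [n1, n2]), Finset.card_insert_of_notMem (by simp [n3]),
        Finset.card_singleton]
  have hsum : ∀ f : IrrCharacter G → ℤ, ∑ χ ∈ NE, f χ = f φ1 + (f φ12 + f φ27) := by
    intro f
    rw [hNE, Finset.sum_insert (by simp [n1, n2]), Finset.sum_insert (by simp [n3]), Finset.sum_singleton]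
  have hD : D = 16 := by
    have h1 := B.sum
    rw [hsum, e1, e12, e27, d1, d12, d27] at h1
    norm_num at h1
    rcases h1 with h1 | h1 <;> omega
  -- the sum of squares
  set R : Finset (IrrCharacter G) := Finset.univ \ (NE ∪ X) with hR
  have hRsum : ∑ χ ∈ R, ((charDegree (χ : G → ℂ) : ℤ)) ^ 2 = 3718 := by
    have h1 : ∑ χ : IrrCharacter G, ((charDegree (χ : G → ℂ) : ℤ)) ^ 2 = 5616 := by
      have h2 := H686.CharKit.sum_deg_sq (G := G)
      rw [hcard] at h2
      exact_mod_cast h2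
    have h2 := Finset.sum_sdiff (f := fun χ : IrrCharacter G => ((charDegree (χ : G → ℂ) : ℤ)) ^ 2)
      (Finset.subset_univ (NE ∪ X))
    have h3 : ∑ χ ∈ X, ((charDegree (χ : G → ℂ) : ℤ)) ^ 2 = 1024 := by
      rw [Finset.sum_congr rfl (g := fun _ => (16 : ℤ) ^ 2) fun χ hχ => by rw [B.degX χ hχ, hD]; norm_num,
        Finset.sum_const, B.card_X]
      norm_num
    rw [Finset.sum_union B.disj, hsum, d1, d12, d27, h3, h1] at h2
    push_cast at h2
    rw [hR]
    linarith
  have hRmem : ∀ {φ : IrrCharacter G} {k : ℕ}, charDegree (φ : G → ℂ) = k → k ≠ 1 → k ≠ 12 → k ≠ 27 → k ≠ 16 →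
      φ ∈ R := by
    intro φ k hk h1 h2 h3 h4
    rw [hR, Finset.mem_sdiff, Finset.mem_union]
    refine ⟨Finset.mem_univ _, ?_⟩
    rintro (h | h)
    · rw [hNE] at h
      simp only [Finset.mem_insert, Finset.mem_singleton] at h
      rcases h with rfl | rfl | rfl
      · exact h1 (hk.symm.trans d1)
      · exact h2 (hk.symm.trans d12)
      · exact h3 (hk.symm.trans d27)
    · exact h4 (hk.symm.trans ((B.degX φ h).trans hD))
  have r13 : φ13 ∈ R := hRmem d13 (by norm_num) (by norm_num) (by norm_num) (by norm_num)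
  have r26 : φ26 ∈ R := hRmem d26 (by norm_num) (by norm_num) (by norm_num) (by norm_num)
  have r39 : φ39 ∈ R := hRmem d39 (by norm_num) (by norm_num) (by norm_num) (by norm_num)
  have n4 : φ13 ≠ φ26 := ne_of_deg d13 d26 (by norm_num)
  have n5 : φ13 ≠ φ39 := ne_of_deg d13 d39 (by norm_num)
  have n6 : φ26 ≠ φ39 := ne_of_deg d26 d39 (by norm_num)
  constructor
  · rintro ⟨χ, rfl⟩
    by_cases h1 : χ ∈ NE
    · rw [hNE] at h1
      simp only [Finset.mem_insert, Finset.mem_singleton] at h1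
      rcases h1 with rfl | rfl | rfl
      · rw [d1]; simp
      · rw [d12]; simp
      · rw [d27]; simp
    by_cases h2 : χ ∈ X
    · rw [B.degX χ h2, hD]; simp
    have h3 : χ ∈ R := by
      rw [hR, Finset.mem_sdiff, Finset.mem_union]
      exact ⟨Finset.mem_univ _, fun h => h.elim h1 h2⟩
    by_cases q13 : χ = φ13
    · rw [q13, d13]; simp
    by_cases q26 : χ = φ26
    · rw [q26, d26]; simp
    by_cases q39 : χ = φ39
    · rw [q39, d39]; simp
    have h4 : ∑ χ ∈ ({χ, φ13, φ26, φ39} : Finset (IrrCharacter G)), ((charDegree (χ : G → ℂ) : ℤ)) ^ 2 ≤ 3718 := by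
      rw [← hRsum]
      refine Finset.sum_le_sum_of_subset_of_nonneg ?_ fun _ _ _ => sq_nonneg _
      intro x hx
      simp only [Finset.mem_insert, Finset.mem_singleton] at hx
      rcases hx with rfl | rfl | rfl | rfl <;> assumption
    rw [Finset.sum_insert (by simp [q13, q26, q39]), Finset.sum_insert (by simp [n4, n5]),
      Finset.sum_insert (by simp [n6]), Finset.sum_singleton, d13, d26, d39] at h4
    obtain ⟨a, ha⟩ := B.rest χ h1 h2
    have hpos : 0 < charDegree (χ : G → ℂ) := H686.CharKit.charDegree_pos χ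
    rw [ha] at h4 hpos ⊢
    push_cast at h4
    have ha2 : a < 3 := by
      by_contra h
      have : (3 : ℤ) ≤ a := by exact_mod_cast not_lt.1 h
      nlinarith
    interval_cases a
    · omega
    · simp
    · simp
  · intro h
    have hX : ∃ χ, χ ∈ X := by
      have : X.Nonempty := by rw [← Finset.card_pos, B.card_X]; norm_num
      exact this
    obtain ⟨χ, hχ⟩ := hX
    simp only [List.mem_cons, List.not_mem_nil, or_false] at h
    rcases h with rfl | rfl | rfl | rfl | rfl | rfl | rfl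
    · exact ⟨φ1, d1⟩
    · exact ⟨φ12, d12⟩
    · exact ⟨φ13, d13⟩
    · exact ⟨χ, (B.degX χ hχ).trans hD⟩
    · exact ⟨φ26, d26⟩
    · exact ⟨φ27, d27⟩
    · exact ⟨φ39, d39⟩

theorem ncard_l33 (hF : Fintype.card F = 3) : (charDegrees (ProjectiveSpecialLinearGroup (Fin 3) F)).ncard = 7 := by
  have : Finite (ProjectiveSpecialLinearGroup (Fin 3) F) :=
    Finite.of_surjective _ (QuotientGroup.mk'_surjective _)
  exact H664.Eight.ncard_eq_of_list [1, 12, 13, 16, 26, 27, 39] (by decide) (mem_l33 hF)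

end three

/-- **`PSL_3(3)` has seven character degrees.** -/
theorem l33 : (charDegrees (ProjectiveSpecialLinearGroup (Fin 3) (ZMod 3))).ncard = 7 :=
  ncard_l33 (ZMod.card 3)

/-! ### `PSL_3(4)` -/

section four

variable {F : Type u} [Field F] [Fintype F]

theorem card_four (hF : Fintype.card F = 4) : Nat.card (ProjectiveSpecialLinearGroup (Fin 3) F) = 20160 := by
  have h1 := Cfsg.Agent.S0243.result (F := F) hF 3 (by norm_num)
  rw [Fin.prod_univ_three] at h1
  norm_num at h1
  omega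

theorem ord_four (hF : Fintype.card F = 4) {r : ℕ} (hr : r = 5 ∨ r = 7) (g : ProjectiveSpecialLinearGroup (Fin 3) F)
    (h : r ∣ orderOf g) : orderOf g = r := by
  have : Fact (Nat.Prime 2) := ⟨Nat.prime_two⟩
  have : CharP F 2 := charP_of_card (k := 2) Nat.prime_two (by rw [hF]; norm_num)
  have h1 := Cfsg.Agent.S2476.result (F := F) 2
  have h2 : orderOf g ∈ Set.range (orderOf : ProjectiveSpecialLinearGroup (Fin 3) F → ℕ) := ⟨g, rfl⟩
  rw [h1, Set.mem_ofPred_eq, hF] at h2
  norm_num at h2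
  rcases hr with rfl | rfl
  · rcases h2 with h2 | h2 | h2 | h2 | h2
    · exfalso; exact absurd (h.trans h2) (by norm_num)
    · exact Nat.dvd_antisymm h2 h
    · exfalso; exact absurd (h.trans h2) (by norm_num)
    · exfalso; exact absurd (h.trans h2) (by norm_num)
    · exfalso; exact absurd (h.trans h2) (by norm_num)
  · rcases h2 with h2 | h2 | h2 | h2 | h2
    · exact Nat.dvd_antisymm h2 h
    · exfalso; exact absurd (h.trans h2) (by norm_num)
    · exfalso; exact absurd (h.trans h2) (by norm_num)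
    · exfalso; exact absurd (h.trans h2) (by norm_num)
    · exfalso; exact absurd (h.trans h2) (by norm_num)

theorem mem_l34 (hF : Fintype.card F = 4) (d : ℕ) :
    d ∈ charDegrees (ProjectiveSpecialLinearGroup (Fin 3) F) ↔ d ∈ [1, 20, 35, 45, 63, 64] := by
  classical
  have : Fact (Nat.Prime 2) := ⟨Nat.prime_two⟩
  have : Fact (Nat.Prime 5) := ⟨by norm_num⟩
  have : Fact (Nat.Prime 7) := ⟨by norm_num⟩
  have : CharP F 2 := charP_of_card (k := 2) Nat.prime_two (by rw [hF]; norm_num)
  have hfin : Finite (ProjectiveSpecialLinearGroup (Fin 3) F) :=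
    Finite.of_surjective _ (QuotientGroup.mk'_surjective _)
  set G := ProjectiveSpecialLinearGroup (Fin 3) F with hG
  have hcard : Nat.card G = 20160 := card_four hF
  have := Characters.Core.finite_irr (G := G)
  have := Fintype.ofFinite (IrrCharacter G)
  obtain ⟨φ1, d1⟩ := exists_triv G
  obtain ⟨φ20, d20⟩ : ∃ φ : IrrCharacter G, charDegree (φ : G → ℂ) = 20 := by
    obtain ⟨φ, h⟩ := t3 (F := F) (n := 3) (by norm_num)
    exact ⟨φ, by rw [h, hF]; decide⟩
  obtain ⟨φ64, d64⟩ : ∃ φ : IrrCharacter G, charDegree (φ : G → ℂ) = 64 := by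
    obtain ⟨φ, h⟩ := exists_steinberg (F := F) (n := 3) (by norm_num) 2 (k := 6) (m := 315) (by rw [card_four hF]; norm_num)
      (by norm_num)
    exact ⟨φ, by rw [h]; norm_num⟩
  obtain ⟨NE, X, ε, D, B⟩ := exists_blk (G := G) (p := 7) (by norm_num) hcard (by norm_num) (by norm_num)
    (ord_four hF (Or.inr rfl)) (e := 3) (t := 2) (by norm_num) (by
      intro e' h1 h2 h3
      have h4 := Nat.le_of_dvd (by norm_num) h1
      interval_cases e' <;> revert h1 h2 h3 <;> decide)
  obtain ⟨NE', X', ε', D', B'⟩ := exists_blk (G := G) (p := 5) (by norm_num) hcard (by norm_num) (by norm_num)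
    (ord_four hF (Or.inl rfl)) (e := 2) (t := 2) (by norm_num) (by
      intro e' h1 h2 h3
      have h4 := Nat.le_of_dvd (by norm_num) h1
      interval_cases e' <;> revert h1 h2 h3 <;> decide)
  have m1 : φ1 ∈ NE := B.mem_NE d1 (by norm_num) (by norm_num) (by norm_num)
  have m20 : φ20 ∈ NE := B.mem_NE d20 (by norm_num) (by norm_num) (by norm_num)
  have m64 : φ64 ∈ NE := B.mem_NE d64 (by norm_num) (by norm_num) (by norm_num)
  have e1 : ε φ1 = 1 := B.sign_pos (by norm_num) m1 d1 (by norm_num)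
  have e20 : ε φ20 = -1 := B.sign_neg (by norm_num) m20 d20 (by norm_num)
  have e64 : ε φ64 = 1 := B.sign_pos (by norm_num) m64 d64 (by norm_num)
  have m1' : φ1 ∈ NE' := B'.mem_NE d1 (by norm_num) (by norm_num) (by norm_num)
  have m64' : φ64 ∈ NE' := B'.mem_NE d64 (by norm_num) (by norm_num) (by norm_num)
  have e1' : ε' φ1 = 1 := B'.sign_pos (by norm_num) m1' d1 (by norm_num)
  have e64' : ε' φ64 = -1 := B'.sign_neg (by norm_num) m64' d64 (by norm_num)
  have n1 : φ1 ≠ φ20 := ne_of_deg d1 d20 (by norm_num)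
  have n2 : φ1 ≠ φ64 := ne_of_deg d1 d64 (by norm_num)
  have n3 : φ20 ≠ φ64 := ne_of_deg d20 d64 (by norm_num)
  have hNE : NE = {φ1, φ20, φ64} := by
    symm
    apply Finset.eq_of_subset_of_card_le
    · intro x hx
      simp only [Finset.mem_insert, Finset.mem_singleton] at hx
      rcases hx with rfl | rfl | rfl <;> assumption
    · rw [B.card_NE, Finset.card_insert_of_notMem (by simp [n1, n2]), Finset.card_insert_of_notMem (by simp [n3]),
        Finset.card_singleton]
  have hNE' : NE' = {φ1, φ64} := by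
    symm
    apply Finset.eq_of_subset_of_card_le
    · intro x hx
      simp only [Finset.mem_insert, Finset.mem_singleton] at hx
      rcases hx with rfl | rfl <;> assumption
    · rw [B'.card_NE, Finset.card_insert_of_notMem (by simp [n2]), Finset.card_singleton]
  have hsum : ∀ f : IrrCharacter G → ℤ, ∑ χ ∈ NE, f χ = f φ1 + (f φ20 + f φ64) := by
    intro f
    rw [hNE, Finset.sum_insert (by simp [n1, n2]), Finset.sum_insert (by simp [n3]), Finset.sum_singleton]
  have hsum' : ∀ f : IrrCharacter G → ℤ, ∑ χ ∈ NE', f χ = f φ1 + f φ64 := by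
    intro f
    rw [hNE', Finset.sum_insert (by simp [n2]), Finset.sum_singleton]
  have hD : D = 45 := by
    have h1 := B.sum
    rw [hsum, e1, e20, e64, d1, d20, d64] at h1
    norm_num at h1
    rcases h1 with h1 | h1 <;> omega
  have hD' : D' = 63 := by
    have h1 := B'.sum
    rw [hsum', e1', e64', d1, d64] at h1
    norm_num at h1
    rcases h1 with h1 | h1 <;> omega
  have hXd : ∀ χ ∈ X, charDegree (χ : G → ℂ) = 45 := fun χ hχ => (B.degX χ hχ).trans hD
  have hXd' : ∀ χ ∈ X', charDegree (χ : G → ℂ) = 63 := fun χ hχ => (B'.degX χ hχ).trans hD'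
  -- the sum of squares
  have hdis : Disjoint (NE ∪ X) X' := by
    rw [Finset.disjoint_left]
    intro χ h1 h2
    have h3 := hXd' χ h2
    rcases Finset.mem_union.1 h1 with h4 | h4
    · rw [hNE] at h4
      simp only [Finset.mem_insert, Finset.mem_singleton] at h4
      rcases h4 with rfl | rfl | rfl
      · rw [d1] at h3; omega
      · rw [d20] at h3; omega
      · rw [d64] at h3; omega
    · rw [hXd χ h4] at h3; omega
  set R : Finset (IrrCharacter G) := Finset.univ \ (NE ∪ X ∪ X') with hR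
  have hRsum : ∑ χ ∈ R, ((charDegree (χ : G → ℂ) : ℤ)) ^ 2 = 3675 := by
    have h1 : ∑ χ : IrrCharacter G, ((charDegree (χ : G → ℂ) : ℤ)) ^ 2 = 20160 := by
      have h2 := H686.CharKit.sum_deg_sq (G := G)
      rw [hcard] at h2
      exact_mod_cast h2
    have h2 := Finset.sum_sdiff (f := fun χ : IrrCharacter G => ((charDegree (χ : G → ℂ) : ℤ)) ^ 2)
      (Finset.subset_univ (NE ∪ X ∪ X'))
    have h3 : ∑ χ ∈ X, ((charDegree (χ : G → ℂ) : ℤ)) ^ 2 = 4050 := by
      rw [Finset.sum_congr rfl (g := fun _ => (45 : ℤ) ^ 2) fun χ hχ => by rw [hXd χ hχ]; norm_num,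
        Finset.sum_const, B.card_X]
      norm_num
    have h4 : ∑ χ ∈ X', ((charDegree (χ : G → ℂ) : ℤ)) ^ 2 = 7938 := by
      rw [Finset.sum_congr rfl (g := fun _ => (63 : ℤ) ^ 2) fun χ hχ => by rw [hXd' χ hχ]; norm_num,
        Finset.sum_const, B'.card_X]
      norm_num
    rw [Finset.sum_union hdis, Finset.sum_union B.disj, hsum, d1, d20, d64, h3, h4, h1] at h2
    push_cast at h2
    rw [hR]
    linarith
  have hR35 : ∀ χ ∈ R, charDegree (χ : G → ℂ) = 35 := by
    intro χ hχ
    have h1 : χ ∉ NE ∪ X ∪ X' := (Finset.mem_sdiff.1 hχ).2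
    rw [Finset.mem_union, Finset.mem_union, not_or, not_or] at h1
    have h2 : 7 ∣ charDegree (χ : G → ℂ) := B.rest χ h1.1.1 h1.1.2
    have h3 : 5 ∣ charDegree (χ : G → ℂ) := by
      refine B'.rest χ ?_ h1.2
      intro h
      apply h1.1.1
      rw [hNE'] at h
      rw [hNE]
      simp only [Finset.mem_insert, Finset.mem_singleton] at h ⊢
      tauto
    obtain ⟨a, ha⟩ : 5 * 7 ∣ charDegree (χ : G → ℂ) := Nat.Coprime.mul_dvd_of_dvd_of_dvd (by norm_num) h3 h2
    have h4 : ((charDegree (χ : G → ℂ) : ℤ)) ^ 2 ≤ 3675 := by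
      rw [← hRsum]
      exact Finset.single_le_sum (f := fun χ : IrrCharacter G => ((charDegree (χ : G → ℂ) : ℤ)) ^ 2)
        (fun _ _ => sq_nonneg _) hχ
    have hpos : 0 < charDegree (χ : G → ℂ) := H686.CharKit.charDegree_pos χ
    rw [ha] at h4 hpos ⊢
    push_cast at h4
    have ha2 : a < 2 := by
      by_contra h
      have : (2 : ℤ) ≤ a := by exact_mod_cast not_lt.1 h
      nlinarith
    interval_cases a
    · omega
    · norm_num
  constructor
  · rintro ⟨χ, rfl⟩
    by_cases h1 : χ ∈ NE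
    · rw [hNE] at h1
      simp only [Finset.mem_insert, Finset.mem_singleton] at h1
      rcases h1 with rfl | rfl | rfl
      · rw [d1]; simp
      · rw [d20]; simp
      · rw [d64]; simp
    by_cases h2 : χ ∈ X
    · rw [hXd χ h2]; simp
    by_cases h3 : χ ∈ X'
    · rw [hXd' χ h3]; simp
    rw [hR35 χ (by
      rw [hR, Finset.mem_sdiff, Finset.mem_union, Finset.mem_union]
      exact ⟨Finset.mem_univ _, fun h => h.elim (fun h => h.elim h1 h2) h3⟩)]
    simp
  · intro h
    obtain ⟨χ, hχ⟩ : X.Nonempty := by rw [← Finset.card_pos, B.card_X]; norm_num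
    obtain ⟨χ', hχ'⟩ : X'.Nonempty := by rw [← Finset.card_pos, B'.card_X]; norm_num
    obtain ⟨ψ, hψ⟩ : R.Nonempty := by
      rw [Finset.nonempty_iff_ne_empty]
      intro h
      rw [h, Finset.sum_empty] at hRsum
      norm_num at hRsum
    simp only [List.mem_cons, List.not_mem_nil, or_false] at h
    rcases h with rfl | rfl | rfl | rfl | rfl | rfl
    · exact ⟨φ1, d1⟩
    · exact ⟨φ20, d20⟩
    · exact ⟨ψ, hR35 ψ hψ⟩
    · exact ⟨χ, hXd χ hχ⟩
    · exact ⟨χ', hXd' χ' hχ'⟩
    · exact ⟨φ64, d64⟩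

/-- **`PSL_3(4)` has six character degrees.** -/
theorem l34 (hF : Fintype.card F = 4) : (charDegrees (ProjectiveSpecialLinearGroup (Fin 3) F)).ncard = 6 := by
  have : Finite (ProjectiveSpecialLinearGroup (Fin 3) F) :=
    Finite.of_surjective _ (QuotientGroup.mk'_surjective _)
  exact H664.Eight.ncard_eq_of_list [1, 20, 35, 45, 63, 64] (by decide) (mem_l34 hF)

end four

end Cfsg.Agent.H175.Eight
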