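import Cfsg.Agent.H664.Eight.Base
import Cfsg.Agent.H603.FD.Spor
import Cfsg.Agent.H921.K4.M23Good
import Cfsg.Agent.H794.MathieuPP
import Cfsg.Agent.H417.RecogMathieu

/-!
# At least eight character degrees: `M₂₃`, `M₂₄` (helper175, S4899)
-/

set_option autoImplicit false

open Cfsg

namespace Cfsg.Agent.H175.Eight

open Cfsg.Agent.H664.Eight

universe u

variable {S : Type u} [Group S]

/-- **`M₂₃` has at least eight character degrees.** -/
theorem isM23 (h : Cfsg.IsM23 S) : Eight S := by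
  have : Finite S := Nat.finite_of_card_ne_zero (by rw [h.2]; norm_num)
  obtain ⟨hs, H, z, v, a, b, c, d, g, h', b₁, c₁, E⟩ := H417.DegMTwentyThree.exists_elev' h
  obtain ⟨-, -, w, -, -, hw, -⟩ := H921.K4.M23.exists_all E
  refine eight_of_list [1, 45, 230, 231, 253, 896, 1035, 2024] (by decide) (by simp) ?_
  intro x hx
  simp only [List.mem_cons, List.not_mem_nil, or_false] at hx
  rcases hx with rfl | rfl | rfl | rfl | rfl | rfl | rfl | rfl
  · exact one_mem
  · exact ⟨b, E.dgb⟩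
  · exact ⟨a, E.dga⟩
  · exact ⟨g, E.dgg⟩
  · exact ⟨w, hw⟩
  · exact ⟨b₁, E.dgb₁⟩
  · exact ⟨d, E.dgd⟩
  · exact ⟨h', E.dgh⟩

/-- **`M₂₄` has at least eight character degrees.** -/
theorem isM24 (hG : Cfsg.IsM24 S) (h23 : 23 ∈ charDegrees S) : Eight S := by
  have : Finite S := Nat.finite_of_card_ne_zero (by rw [hG.2]; norm_num)
  have := hG.1
  obtain ⟨H⟩ := M24Order.Final.exists_hyp hG.2
  have : Fact (Nat.Prime 5) := ⟨by norm_num⟩
  have : Fact (Nat.Prime 7) := ⟨by norm_num⟩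
  obtain ⟨R⟩ : Nonempty (Sylow 5 S) := inferInstance
  obtain ⟨T⟩ : Nonempty (Sylow 7 S) := inferInstance
  obtain ⟨L, M, B, ε, a, b, c, d, h5, ⟨K', M', D, a', h7⟩ | ⟨K', M', B', ε', l', h7⟩⟩ :=
    SporadicA.M24.Convert.exists_blocks H R T
  · obtain ⟨t, v, Θ, Θ', L⟩ := M24Order.ToLast.exists_last H h5 h7
    refine eight_of_list [1, 23, 990, 1035, 1771, 2024, 5544, 5796] (by decide) (by simp) ?_
    intro x hx
    simp only [List.mem_cons, List.not_mem_nil, or_false] at hx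
    rcases hx with rfl | rfl | rfl | rfl | rfl | rfl | rfl | rfl
    · exact one_mem
    · exact h23
    · exact ⟨_, L.d990⟩
    · exact ⟨_, L.d1035⟩
    · exact ⟨_, L.d1771⟩
    · exact ⟨_, L.d2024⟩
    · exact ⟨_, L.d5544⟩
    · exact ⟨_, L.d5796⟩
  · exact (S0422.six_false (SporadicA.M24.Convert.conv H) h5 h7).elim

/-- **Row `M₂₃`.** -/
theorem eight_m23 (h : Spor.IsoM23 S) : Eight S := isM23 (H417.RecogMathieu.isM23 h)

/-- **Row `M₂₄`.** -/
theorem eight_m24 (h : Spor.IsoM24 S) : Eight S := by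
  refine isM24 (H417.RecogMathieu.isM24 h) ?_
  obtain ⟨e⟩ := h
  rw [H424.DegTools.charDegrees_congr e]
  exact H794.MathieuPP.mem_twentythree_M24

end Cfsg.Agent.H175.Eight
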